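/-
Showing that a multiplier is trivial: central extensions with kernel of prime order.
-/
import Cfsg.Agent.Schur.Exponent
import Cfsg.Agent.Solvable.Gaschutz
import Cfsg.Prelude.Def_KGroupFacts

set_option autoImplicit false

namespace CfsgLib.Multiplier

open Subgroup

universe u

/-- No stem extension of `G` has kernel of order `p`. -/
def NoStem (G : Type u) [Group G] (p : ℕ) : Prop :=
  ∀ (Γ : Type u) [Group Γ] [Finite Γ] (σ : Γ →* G), Cfsg.IsStemExtension σ → Nat.card σ.ker ≠ p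

theorem exists_prime_quotient {G : Type u} [Group G] {Γ : Type u} [Group Γ] [Finite Γ] (σ : Γ →* G)
    (hσ : Cfsg.IsStemExtension σ) (hne : σ.ker ≠ ⊥) :
    ∃ p, p.Prime ∧ ¬ NoStem G p := by
  haveI : Nontrivial σ.ker := (Subgroup.nontrivial_iff_ne_bot _).mpr hne
  obtain ⟨M, hM, -⟩ := (eq_top_or_exists_le_coatom (⊥ : Subgroup σ.ker)).resolve_left bot_ne_top
  have hMn : (M.map σ.ker.subtype).Normal := by
    refine ⟨fun n hn g => ?_⟩
    obtain ⟨m, hm, rfl⟩ := hn
    have hc : (σ.ker.subtype m) ∈ center Γ := hσ.2.1 m.2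
    rw [mem_center_iff.mp hc g, mul_inv_cancel_right]
    exact ⟨m, hm, rfl⟩
  let Z0 := M.map σ.ker.subtype
  have hle : Z0 ≤ σ.ker := map_subtype_le M
  let τ : Γ ⧸ Z0 →* G := QuotientGroup.lift Z0 σ hle
  have hker : τ.ker = σ.ker.map (QuotientGroup.mk' Z0) := QuotientGroup.ker_lift Z0 σ hle
  have hstem : Cfsg.IsStemExtension τ := by
    refine ⟨fun x => ?_, ?_, ?_⟩
    · obtain ⟨y, rfl⟩ := hσ.1 x
      exact ⟨QuotientGroup.mk y, rfl⟩
    · rw [hker]
      rintro _ ⟨z, hz, rfl⟩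
      refine mem_center_iff.mpr fun y => ?_
      obtain ⟨y, rfl⟩ := QuotientGroup.mk'_surjective Z0 y
      rw [← map_mul, ← map_mul, mem_center_iff.mp (hσ.2.1 hz) y]
    · rw [hker]
      refine (map_mono hσ.2.2).trans ?_
      rw [_root_.commutator_def, map_commutator, _root_.commutator_def]
      exact commutator_mono le_top le_top
  haveI hMnormal : M.Normal := ⟨fun n hn g => by
    rw [show g * n * g⁻¹ = n from Subtype.ext (by
      show (g : Γ) * n * (g : Γ)⁻¹ = n
      rw [mem_center_iff.mp (hσ.2.1 n.2) g, mul_inv_cancel_right])]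
    exact hn⟩
  refine ⟨M.index, ?_, fun h => h (Γ ⧸ Z0) τ hstem ?_⟩
  · haveI : Nontrivial (σ.ker ⧸ M) := QuotientGroup.nontrivial_iff.mpr hM.1
    haveI : IsSimpleGroup (σ.ker ⧸ M) := ⟨fun K _ => by
      have h1 : M ≤ K.comap (QuotientGroup.mk' M) := by
        intro x hx
        rw [mem_comap, show QuotientGroup.mk' M x = 1 from (QuotientGroup.eq_one_iff x).mpr hx]
        exact one_mem K
      rcases hM.le_iff.mp h1 with h | h
      · right
        rw [← map_comap_eq_self_of_surjective (QuotientGroup.mk'_surjective M) K, h]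
        exact map_top_of_surjective _ (QuotientGroup.mk'_surjective M)
      · left
        rw [← map_comap_eq_self_of_surjective (QuotientGroup.mk'_surjective M) K, h]
        exact QuotientGroup.map_mk'_self M⟩
    letI : CommGroup (σ.ker ⧸ M) := { (inferInstance : Group (σ.ker ⧸ M)) with
      mul_comm := fun a b => by
        obtain ⟨a, rfl⟩ := QuotientGroup.mk'_surjective M a
        obtain ⟨b, rfl⟩ := QuotientGroup.mk'_surjective M b
        rw [← map_mul, ← map_mul, show a * b = b * a from Subtype.ext (mem_center_iff.mp (hσ.2.1 b.2) a)] }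
    exact IsSimpleGroup.prime_card
  · have h1 : Nat.card τ.ker * Nat.card G = Nat.card (Γ ⧸ Z0) := by
      rw [← τ.ker.card_mul_index, Subgroup.index_ker, MonoidHom.range_eq_top.mpr hstem.1, card_top]
    have h2 : Nat.card σ.ker * Nat.card G = Nat.card Γ := by
      rw [← σ.ker.card_mul_index, Subgroup.index_ker, MonoidHom.range_eq_top.mpr hσ.1, card_top]
    have h3 : Nat.card Z0 = Nat.card M := Subgroup.card_map_of_injective σ.ker.subtype_injective
    haveI : Finite G := Finite.of_surjective σ hσ.1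
    refine Nat.eq_of_mul_eq_mul_right (Nat.card_pos (α := G)) ?_
    rw [h1]
    refine Nat.eq_of_mul_eq_mul_left (Nat.card_pos (α := Z0)) ?_
    rw [← Subgroup.index, Z0.card_mul_index, ← h2, h3, ← mul_assoc, M.card_mul_index]

/-- The trivial multiplier, prime by prime. -/
theorem hasTrivial_of_noStem (G : Type u) [Group G] [Finite G] (h : ∀ p, p.Prime → NoStem G p) :
    Cfsg.HasCyclicSchurMultiplier G 1 := by
  haveI : Subsingleton (Multiplicative (ZMod 1)) := Multiplicative.toAdd.injective.subsingleton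
  refine ⟨⟨G, inferInstance, inferInstance, MonoidHom.id G, ⟨fun x => ⟨x, rfl⟩, ?_, ?_⟩, ?_⟩, ?_⟩
  · simp
  · simp
  · haveI : Subsingleton (MonoidHom.id G).ker := ⟨fun a b => Subtype.ext (a.2.trans b.2.symm)⟩
    exact ⟨{ toFun := fun _ => 1, invFun := fun _ => 1, left_inv := fun _ => Subsingleton.elim _ _,
             right_inv := fun _ => Subsingleton.elim _ _, map_mul' := fun _ _ => Subsingleton.elim _ _ }⟩
  intro Γ _ _ σ hσ
  refine ⟨1, fun x => ⟨1, ?_⟩⟩
  have hb : σ.ker = ⊥ := by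
    by_contra hne
    obtain ⟨p, hp, hn⟩ := exists_prime_quotient σ hσ hne
    exact hn (h p hp)
  exact Subtype.ext ((Subgroup.mem_bot.mp (hb ▸ x.2)).symm)

theorem noStem_of_not_sq_dvd (G : Type u) [Group G] [Finite G] {p : ℕ} (hp : p.Prime)
    (h : ¬ p ^ 2 ∣ Nat.card G) : NoStem G p := by
  intro Γ _ _ σ hσ hcard
  have h1 := CfsgLib.Schur.exponent_sq_dvd_index σ.ker hσ.2.1 hσ.2.2
  rw [Subgroup.index_ker, MonoidHom.range_eq_top.mpr hσ.1, card_top] at h1
  haveI := Fact.mk hp
  haveI : IsCyclic σ.ker := isCyclic_of_prime_card hcard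
  rw [IsCyclic.exponent_eq_card, hcard] at h1
  exact h h1

/-- A complement to a central kernel rules out a stem extension. -/
theorem ker_eq_bot_of_complement {G : Type u} [Group G] {Γ : Type u} [Group Γ] (σ : Γ →* G)
    (hσ : Cfsg.IsStemExtension σ) (K : Subgroup Γ) (h1 : K ⊓ σ.ker = ⊥) (h2 : K ⊔ σ.ker = ⊤) :
    σ.ker = ⊥ := by
  have hcomm : commutator Γ ≤ K := by
    rw [_root_.commutator_def, commutator_le]
    intro a _ b _
    have ha : a ∈ K ⊔ σ.ker := h2 ▸ mem_top a
    have hb : b ∈ K ⊔ σ.ker := h2 ▸ mem_top b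
    rw [← SetLike.mem_coe, Subgroup.mul_normal] at ha hb
    obtain ⟨k, hk, z, hz, rfl⟩ := ha
    obtain ⟨l, hl, w, hw, rfl⟩ := hb
    rw [CfsgLib.Schur.commutator_mul_central (hσ.2.1 hz) (hσ.2.1 hw)]
    exact mul_mem (mul_mem (mul_mem hk hl) (inv_mem hk)) (inv_mem hl)
  rw [eq_bot_iff, ← h1]
  exact fun x hx => ⟨hcomm (hσ.2.2 hx), hx⟩

/-- A partial complement of coprime index rules out a stem extension. -/
theorem noStem_of_partial (G : Type u) [Group G] [Finite G] {p : ℕ} (hp : p.Prime)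
    (h : ∀ (Γ : Type u) [Group Γ] [Finite Γ] (σ : Γ →* G), Cfsg.IsStemExtension σ → Nat.card σ.ker = p →
      ∃ H : Subgroup Γ, H ⊓ σ.ker = ⊥ ∧ ∀ d, d * Nat.card H = Nat.card G → ¬ p ∣ d) :
    NoStem G p := by
  intro Γ _ _ σ hσ hcard
  obtain ⟨H, hH, hd⟩ := h Γ σ hσ hcard
  haveI : IsMulCommutative σ.ker := ⟨⟨fun a b => Subtype.ext (mem_center_iff.mp (hσ.2.1 b.2) a)⟩⟩
  set U := H ⊔ σ.ker
  have hU : σ.ker ≤ U := le_sup_right
  have hG : σ.ker.index = Nat.card G := by
    rw [Subgroup.index_ker, MonoidHom.range_eq_top.mpr hσ.1, card_top]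
  have hmap : Nat.card H = (σ.ker.subgroupOf U).index := by
    refine Nat.card_eq_of_bijective (fun x : H => (QuotientGroup.mk ⟨x.1, mem_sup_left x.2⟩ : U ⧸ σ.ker.subgroupOf U)) ⟨?_, ?_⟩
    · intro a b hab
      rw [QuotientGroup.eq] at hab
      have hm : (a : Γ)⁻¹ * b ∈ H ⊓ σ.ker := mem_inf.mpr ⟨mul_mem (inv_mem a.2) b.2, mem_subgroupOf.mp hab⟩
      rw [hH, mem_bot, inv_mul_eq_one] at hm
      exact Subtype.ext hm
    · intro q
      obtain ⟨⟨x, hx⟩, rfl⟩ := QuotientGroup.mk_surjective q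
      rw [← SetLike.mem_coe, Subgroup.mul_normal] at hx
      obtain ⟨a, ha, b, hb, rfl⟩ := hx
      exact ⟨⟨a, ha⟩, QuotientGroup.eq.mpr (mem_subgroupOf.mpr (by simpa using hb))⟩
  have hidx : U.index * Nat.card H = Nat.card G := by
    rw [← hG, hmap, mul_comm, ← Subgroup.relIndex_mul_index hU]
    rfl
  obtain ⟨K, hK⟩ := CfsgLib.Gaschutz.exists_complement (K := σ.ker) (U := U) hU
    (by rw [hcard]; exact hp.coprime_iff_not_dvd.mpr (hd _ hidx)) H le_sup_left hH (sup_comm _ _)
  have hb := ker_eq_bot_of_complement σ hσ K (by rw [inf_comm]; exact hK.disjoint.eq_bot)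
    (by rw [sup_comm]; exact hK.sup_eq_top)
  rw [hb, card_bot] at hcard
  exact hp.ne_one hcard.symm

end CfsgLib.Multiplier
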