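/-
The 3-part of a multiplier for a Sylow 3-subgroup which is elementary of order 9 or extra-special of
order 27, from a few automorphisms induced in the group.
-/
import Cfsg.Agent.Multiplier.Reduce

set_option autoImplicit false
set_option maxHeartbeats 400000

namespace CfsgLib.Multiplier

open Subgroup
open scoped commutatorElement

universe u

variable {Γ : Type u} [Group Γ]

theorem comm_central {a b z w : Γ} (hz : z ∈ center Γ) (hw : w ∈ center Γ) :
    ⁅a * z, b * w⁆ = ⁅a, b⁆ := CfsgLib.Schur.commutator_mul_central hz hw |>.trans (commutatorElement_def a b).symm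

theorem comm_inv_left {x y : Γ} (h : ⁅x, y⁆ ∈ center Γ) : ⁅x⁻¹, y⁆ = ⁅x, y⁆⁻¹ := by
  have hc : x⁻¹ * ⁅x, y⁆⁻¹ = ⁅x, y⁆⁻¹ * x⁻¹ := mem_center_iff.mp (inv_mem h) x⁻¹
  calc ⁅x⁻¹, y⁆ = x⁻¹ * ⁅x, y⁆⁻¹ * x := by simp only [commutatorElement_def]; group
    _ = _ := by rw [hc]; group

theorem eq_one_of_eq_inv {z : Γ} (h3 : z ^ 3 = 1) (h : z = z⁻¹) : z = 1 := by
  have h2 : z * z = 1 := by
    calc z * z = z * z⁻¹ := by rw [← h]
      _ = 1 := mul_inv_cancel z
  rw [pow_succ, pow_two, h2, one_mul] at h3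
  exact h3

variable {G : Type u} [Group G] {σ : Γ →* G}

theorem exists_central_factor (hσ : Cfsg.IsStemExtension σ) {x y : Γ} (h : σ x = σ y) :
    ∃ z ∈ σ.ker, x = y * z :=
  ⟨y⁻¹ * x, by rw [MonoidHom.mem_ker, map_mul, map_inv, h, inv_mul_cancel], by group⟩

theorem cube_fixed (hσ : Cfsg.IsStemExtension σ) (hz3 : ∀ z ∈ σ.ker, z ^ 3 = 1) {A Al : Γ}
    (h : σ (Al * A * Al⁻¹) = (σ A)⁻¹) (hu : A ^ 3 ∈ σ.ker) : A ^ 3 = 1 := by
  obtain ⟨z, hz, he⟩ := exists_central_factor hσ (y := A⁻¹) (h.trans (map_inv σ A).symm)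
  refine eq_one_of_eq_inv (hz3 _ hu) ?_
  have h1 : Al * A ^ 3 * Al⁻¹ = A ^ 3 := by
    rw [mem_center_iff.mp (hσ.2.1 hu) Al, mul_inv_cancel_right]
  calc A ^ 3 = Al * A ^ 3 * Al⁻¹ := h1.symm
    _ = (Al * A * Al⁻¹) ^ 3 := conj_pow.symm
    _ = (A⁻¹) ^ 3 * z ^ 3 := by
      rw [he]; exact (show Commute A⁻¹ z from mem_center_iff.mp (hσ.2.1 hz) A⁻¹).mul_pow 3
    _ = (A ^ 3)⁻¹ := by rw [hz3 z hz, mul_one, inv_pow]

/-- Elementary of order nine. -/
theorem noStem_three_nine (G : Type u) [Group G] [Finite G] (a b al sw : G)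
    (ha : a ^ 3 = 1) (hb : b ^ 3 = 1) (hab : a * b = b * a)
    (hala : al * a * al⁻¹ = a⁻¹) (halb : al * b * al⁻¹ = b⁻¹) (hsa : sw * a * sw⁻¹ = b)
    (hsb : sw * b * sw⁻¹ = a)
    (hind : Function.Injective fun p : Fin 3 × Fin 3 => a ^ (p.1 : ℕ) * b ^ (p.2 : ℕ))
    (hidx : ∀ d, d * 9 = Nat.card G → ¬ 3 ∣ d) : NoStem G 3 := by
  refine noStem_of_partial G Nat.prime_three fun Γ _ _ σ hσ hcard => ?_
  have hz3 : ∀ z ∈ σ.ker, z ^ 3 = 1 := fun z hz => by
    have := pow_card_eq_one' (G := σ.ker) (x := ⟨z, hz⟩)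
    rw [hcard] at this
    exact congrArg Subtype.val this
  obtain ⟨A, rfl⟩ := hσ.1 a
  obtain ⟨B, rfl⟩ := hσ.1 b
  obtain ⟨Al, rfl⟩ := hσ.1 al
  obtain ⟨S, rfl⟩ := hσ.1 sw
  have hA : A ^ 3 = 1 := cube_fixed hσ hz3 (Al := Al) (by simpa using hala) (by simpa [MonoidHom.mem_ker] using ha)
  have hB : B ^ 3 = 1 := cube_fixed hσ hz3 (Al := Al) (by simpa using halb) (by simpa [MonoidHom.mem_ker] using hb)
  have hd : ⁅A, B⁆ ∈ σ.ker := by
    rw [MonoidHom.mem_ker, map_commutatorElement, commutatorElement_eq_one_iff_mul_comm]; exact hab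
  have hAB : A * B = B * A := by
    refine commutatorElement_eq_one_iff_mul_comm.mp (eq_one_of_eq_inv (hz3 _ hd) ?_)
    obtain ⟨z, hz, he⟩ := exists_central_factor hσ (x := S * A * S⁻¹) (y := B) (by simpa using hsa)
    obtain ⟨w, hw, he'⟩ := exists_central_factor hσ (x := S * B * S⁻¹) (y := A) (by simpa using hsb)
    calc ⁅A, B⁆ = S * ⁅A, B⁆ * S⁻¹ := by rw [mem_center_iff.mp (hσ.2.1 hd) S, mul_inv_cancel_right]
      _ = ⁅S * A * S⁻¹, S * B * S⁻¹⁆ := by simp only [commutatorElement_def]; group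
      _ = ⁅A, B⁆⁻¹ := by rw [he, he', comm_central (hσ.2.1 hz) (hσ.2.1 hw), commutatorElement_inv]
  let f : Fin 3 × Fin 3 → Γ := fun p => A ^ (p.1 : ℕ) * B ^ (p.2 : ℕ)
  have hf : ∀ i j : ℕ, A ^ i * B ^ j ∈ Set.range f := fun i j =>
    ⟨(Fin.ofNat 3 i, Fin.ofNat 3 j), by
      show A ^ (i % 3) * B ^ (j % 3) = _
      rw [← pow_eq_pow_mod i hA, ← pow_eq_pow_mod j hB]⟩
  let H : Subgroup Γ := Subgroup.closure {A, B}
  have hH : ∀ x ∈ H, x ∈ Set.range f := by
    intro x hx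
    rw [← mem_toSubmonoid, closure_toSubmonoid_of_finite] at hx
    induction hx using Submonoid.closure_induction_right with
    | one => exact ⟨(0, 0), by simp [f]⟩
    | mul_right y _ g hg ih =>
      obtain ⟨⟨i, j⟩, rfl⟩ := ih
      rcases hg with rfl | hg
      · rw [mul_assoc, ((Commute.symm hAB).pow_left (j : ℕ)).eq, ← mul_assoc, ← pow_succ]
        exact hf _ _
      · obtain rfl : g = B := hg
        rw [mul_assoc, ← pow_succ]
        exact hf _ _
  have hinj : Function.Injective fun p => σ (f p) := by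
    intro p q h
    apply hind
    simpa [f] using h
  refine ⟨H, eq_bot_iff.mpr fun x hx => ?_, fun d hd => hidx d ?_⟩
  · obtain ⟨p, rfl⟩ := hH x hx.1
    rw [@hinj p (0, 0) (by show σ (f p) = σ (f (0, 0)); rw [show σ (f p) = 1 from hx.2]; simp [f])]
    simp [f]
  · rw [← hd]
    congr 1
    have hAm : A ∈ H := subset_closure (Set.mem_insert A {B})
    have hBm : B ∈ H := subset_closure (Set.mem_insert_of_mem A rfl)
    have hmem : ∀ p, f p ∈ H := fun p => H.mul_mem (H.pow_mem hAm _) (H.pow_mem hBm _)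
    rw [← Nat.card_eq_of_bijective (fun p => (⟨f p, hmem p⟩ : H))
      ⟨fun p q h => hinj (congrArg σ (congrArg Subtype.val h)), fun ⟨x, hx⟩ => by
        obtain ⟨p, rfl⟩ := hH x hx; exact ⟨p, rfl⟩⟩]
    simp

/-- Extra-special of order twenty-seven and exponent three. -/
theorem noStem_three_twentyseven (G : Type u) [Group G] [Finite G] (a b al be : G)
    (ha : a ^ 3 = 1) (hb : b ^ 3 = 1) (hca : ⁅a, b⁆ * a = a * ⁅a, b⁆) (hcb : ⁅a, b⁆ * b = b * ⁅a, b⁆)
    (hala : al * a * al⁻¹ = a⁻¹) (halb : al * b * al⁻¹ = b) (hbea : be * a * be⁻¹ = a)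
    (hbeb : be * b * be⁻¹ = b⁻¹)
    (hind : Function.Injective fun p : Fin 3 × Fin 3 × Fin 3 =>
      a ^ (p.1 : ℕ) * b ^ (p.2.1 : ℕ) * ⁅a, b⁆ ^ (p.2.2 : ℕ))
    (hidx : ∀ d, d * 27 = Nat.card G → ¬ 3 ∣ d) : NoStem G 3 := by
  refine noStem_of_partial G Nat.prime_three fun Γ _ _ σ hσ hcard => ?_
  have hz3 : ∀ z ∈ σ.ker, z ^ 3 = 1 := fun z hz => by
    have := pow_card_eq_one' (G := σ.ker) (x := ⟨z, hz⟩)
    rw [hcard] at this
    exact congrArg Subtype.val this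
  obtain ⟨A, rfl⟩ := hσ.1 a
  obtain ⟨B, rfl⟩ := hσ.1 b
  obtain ⟨Al, rfl⟩ := hσ.1 al
  obtain ⟨Be, rfl⟩ := hσ.1 be
  have hA : A ^ 3 = 1 := cube_fixed hσ hz3 (Al := Al) (by simpa using hala) (by simpa [MonoidHom.mem_ker] using ha)
  have hB : B ^ 3 = 1 := cube_fixed hσ hz3 (Al := Be) (by simpa using hbeb) (by simpa [MonoidHom.mem_ker] using hb)
  set C := ⁅A, B⁆ with hC
  have hCa : ⁅C, A⁆ ∈ σ.ker := by
    rw [MonoidHom.mem_ker, map_commutatorElement, commutatorElement_eq_one_iff_mul_comm,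
      map_commutatorElement]
    exact hca
  have hCb : ⁅C, B⁆ ∈ σ.ker := by
    rw [MonoidHom.mem_ker, map_commutatorElement, commutatorElement_eq_one_iff_mul_comm,
      map_commutatorElement]
    exact hcb
  have hmove : ∀ (W x y : Γ), σ (W * x * W⁻¹) = σ x → ⁅C, y⁆ ∈ σ.ker → y = x →
      σ (W * C * W⁻¹) = (σ C)⁻¹ → ⁅C, x⁆ = 1 := by
    intro W x y hx hy hyx hWC
    subst hyx
    obtain ⟨z, hz, he⟩ := exists_central_factor hσ (y := y) hx
    obtain ⟨w, hw, he'⟩ := exists_central_factor hσ (y := C⁻¹) (hWC.trans (map_inv σ C).symm)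
    refine eq_one_of_eq_inv (hz3 _ hy) ?_
    calc ⁅C, y⁆ = W * ⁅C, y⁆ * W⁻¹ := by rw [mem_center_iff.mp (hσ.2.1 hy) W, mul_inv_cancel_right]
      _ = ⁅W * C * W⁻¹, W * y * W⁻¹⁆ := by simp only [commutatorElement_def]; group
      _ = ⁅C⁻¹, y⁆ := by rw [he, he', comm_central (hσ.2.1 hw) (hσ.2.1 hz)]
      _ = ⁅C, y⁆⁻¹ := comm_inv_left (hσ.2.1 hy)
  have hCA : C * A = A * C := by
    refine commutatorElement_eq_one_iff_mul_comm.mp (hmove Be A A (by simpa using hbea) hCa rfl ?_)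
    rw [hC, map_mul, map_mul, map_inv, map_commutatorElement]
    calc σ Be * ⁅σ A, σ B⁆ * (σ Be)⁻¹ = ⁅σ Be * σ A * (σ Be)⁻¹, σ Be * σ B * (σ Be)⁻¹⁆ := by
          simp only [commutatorElement_def]; group
      _ = ⁅σ A, (σ B)⁻¹⁆ := by rw [hbea, hbeb]
      _ = (σ B)⁻¹ * (⁅σ A, σ B⁆⁻¹ * σ B) := by simp only [commutatorElement_def]; group
      _ = ⁅σ A, σ B⁆⁻¹ := by rw [(Commute.inv_left hcb).eq, inv_mul_cancel_left]
  have hCB : C * B = B * C := by
    refine commutatorElement_eq_one_iff_mul_comm.mp (hmove Al B B (by simpa using halb) hCb rfl ?_)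
    rw [hC, map_mul, map_mul, map_inv, map_commutatorElement]
    calc σ Al * ⁅σ A, σ B⁆ * (σ Al)⁻¹ = ⁅σ Al * σ A * (σ Al)⁻¹, σ Al * σ B * (σ Al)⁻¹⁆ := by
          simp only [commutatorElement_def]; group
      _ = ⁅(σ A)⁻¹, σ B⁆ := by rw [hala, halb]
      _ = (σ A)⁻¹ * (⁅σ A, σ B⁆⁻¹ * σ A) := by simp only [commutatorElement_def]; group
      _ = ⁅σ A, σ B⁆⁻¹ := by rw [(Commute.inv_left hca).eq, inv_mul_cancel_left]
  have hC3 : C ^ 3 = 1 := by
    have h : A * B * A⁻¹ = C * B := by rw [hC, commutatorElement_def]; group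
    have h' := congrArg (· ^ 3) h
    simp only [conj_pow, hB, mul_one, mul_inv_cancel] at h'
    rw [(show Commute C B from hCB).mul_pow, hB, mul_one] at h'
    exact h'.symm
  have hBA : ∀ j : ℕ, B ^ j * A = A * B ^ j * C ^ (2 * j) := by
    intro j
    have h1 : A⁻¹ * B * A = B * C ^ 2 := by
      have h2 : A * B = B * (A * C) := by
        rw [← mul_assoc]
        calc A * B = C * (B * A) := by rw [hC, commutatorElement_def]; group
          _ = B * A * C := ((show Commute C B from hCB).mul_right hCA).eq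
      have hCinv : C ^ 2 = C⁻¹ := by
        rw [eq_inv_iff_mul_eq_one, ← pow_succ]; exact hC3
      rw [hCinv]
      calc A⁻¹ * B * A = A⁻¹ * (B * (A * C)) * C⁻¹ := by group
        _ = _ := by rw [← h2]; group
    calc B ^ j * A = A * (A⁻¹ * B * A) ^ j := by
          rw [show (A⁻¹ * B * A) ^ j = A⁻¹ * B ^ j * A by
            simpa using (conj_pow (a := A⁻¹) (b := B) (i := j))]
          group
      _ = A * B ^ j * C ^ (2 * j) := by
          rw [h1, ((show Commute C B from hCB).pow_left 2).symm.mul_pow, ← pow_mul, mul_assoc]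
  let f : Fin 3 × Fin 3 × Fin 3 → Γ := fun p => A ^ (p.1 : ℕ) * B ^ (p.2.1 : ℕ) * C ^ (p.2.2 : ℕ)
  have hf : ∀ i j k : ℕ, A ^ i * B ^ j * C ^ k ∈ Set.range f := fun i j k =>
    ⟨(Fin.ofNat 3 i, Fin.ofNat 3 j, Fin.ofNat 3 k), by
      show A ^ (i % 3) * B ^ (j % 3) * C ^ (k % 3) = _
      rw [← pow_eq_pow_mod i hA, ← pow_eq_pow_mod j hB, ← pow_eq_pow_mod k hC3]⟩
  let H : Subgroup Γ := Subgroup.closure {A, B}
  have hH : ∀ x ∈ H, x ∈ Set.range f := by
    intro x hx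
    rw [← mem_toSubmonoid, closure_toSubmonoid_of_finite] at hx
    induction hx using Submonoid.closure_induction_right with
    | one => exact ⟨(0, 0, 0), by simp [f]⟩
    | mul_right y _ g hg ih =>
      obtain ⟨⟨i, j, k⟩, rfl⟩ := ih
      show A ^ (i : ℕ) * B ^ (j : ℕ) * C ^ (k : ℕ) * g ∈ _
      rcases hg with rfl | hg
      · rw [mul_assoc _ (C ^ (k : ℕ)), ((show Commute C g from hCA).pow_left _).eq, ← mul_assoc,
          mul_assoc (g ^ (i : ℕ)), hBA, ← mul_assoc, ← mul_assoc, ← pow_succ, mul_assoc _ (C ^ (2 * (j : ℕ))),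
          ← pow_add]
        exact hf _ _ _
      · obtain rfl : g = B := hg
        rw [mul_assoc _ (C ^ (k : ℕ)), ((show Commute C g from hCB).pow_left _).eq, ← mul_assoc,
          mul_assoc (A ^ (i : ℕ)), ← pow_succ]
        exact hf _ _ _
  have hinj : Function.Injective fun p => σ (f p) := by
    intro p q h
    apply hind
    simpa [f, hC] using h
  refine ⟨H, eq_bot_iff.mpr fun x hx => ?_, fun d hd => hidx d ?_⟩
  · obtain ⟨p, rfl⟩ := hH x hx.1
    rw [@hinj p (0, 0, 0) (by show σ (f p) = σ (f (0, 0, 0)); rw [show σ (f p) = 1 from hx.2]; simp [f])]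
    simp [f]
  · rw [← hd]
    congr 1
    have hmem : ∀ p, f p ∈ H := fun p => by
      have hAm : A ∈ H := subset_closure (Set.mem_insert _ _)
      have hBm : B ∈ H := subset_closure (Set.mem_insert_of_mem _ rfl)
      refine mul_mem (mul_mem (pow_mem hAm _) (pow_mem hBm _)) (pow_mem ?_ _)
      rw [hC, commutatorElement_def]
      exact mul_mem (mul_mem (mul_mem hAm hBm) (inv_mem hAm)) (inv_mem hBm)
    rw [← Nat.card_eq_of_bijective (fun p => (⟨f p, hmem p⟩ : H))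
      ⟨fun p q h => hinj (congrArg σ (congrArg Subtype.val h)), fun ⟨x, hx⟩ => by
        obtain ⟨p, rfl⟩ := hH x hx; exact ⟨p, rfl⟩⟩]
    simp

end CfsgLib.Multiplier
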