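/-
The 3-part of a multiplier from position tables of four permutations of the 24 points.
-/
import Cfsg.Agent.Multiplier.Three
import Cfsg.Agent.ExtCert.Cert

set_option autoImplicit false

namespace CfsgLib.Multiplier

open Cfsg CfsgLib.Golay CfsgLib.ExtCert
open scoped commutatorElement

/-- The table of a power. -/
def powT (x : List ℕ) : ℕ → List ℕ
  | 0 => List.range 24
  | n + 1 => compL (powT x n) x

/-- The table of a conjugate. -/
def conjT (g x : List ℕ) : List ℕ := compL (compL g x) (invL g)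

/-- The table of a commutator. -/
def commT (a b : List ℕ) : List ℕ := compL (compL (compL a b) (invL a)) (invL b)

theorem toList_pow (σ : Equiv.Perm GolayPt) : ∀ n : ℕ, toList (σ ^ n) = powT (toList σ) n := by
  intro n
  induction n with
  | zero => rw [pow_zero, toList_one]; rfl
  | succ n ih => rw [pow_succ, toList_mul, ih]; rfl

/-- The checks for a group of order nine. -/
def nineT : List (List ℕ) → Bool
  | [a, b, al, sw] =>
    powT a 3 == List.range 24 && powT b 3 == List.range 24 && compL a b == compL b a &&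
      conjT al a == invL a && conjT al b == invL b && conjT sw a == b && conjT sw b == a &&
      decide (∀ p q : Fin 3 × Fin 3, compL (powT a p.1) (powT b p.2) = compL (powT a q.1) (powT b q.2) → p = q)
  | _ => false

/-- The checks for an extra-special group of order twenty-seven. -/
def heisT : List (List ℕ) → Bool
  | [a, b, al, be] =>
    powT a 3 == List.range 24 && powT b 3 == List.range 24 && compL (commT a b) a == compL a (commT a b) &&
      compL (commT a b) b == compL b (commT a b) && conjT al a == invL a && conjT al b == b &&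
      conjT be a == a && conjT be b == invL b &&
      decide (∀ p q : Fin 3 × Fin 3 × Fin 3,
        compL (compL (powT a p.1) (powT b p.2.1)) (powT (commT a b) p.2.2) =
          compL (compL (powT a q.1) (powT b q.2.1)) (powT (commT a b) q.2.2) → p = q)
  | _ => false

variable {K : Subgroup (Equiv.Perm GolayPt)}

theorem inj_tab {x y : ↥K} (h : toList x.1 = toList y.1) : x = y := Subtype.ext (toList_injective h)

theorem exists_four {T : List (List ℕ)} (hmem : ∀ L ∈ T, ∃ s ∈ K, toList s = L) {a b c d : List ℕ}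
    (hT : T = [a, b, c, d]) :
    ∃ x y z w : ↥K, toList x.1 = a ∧ toList y.1 = b ∧ toList z.1 = c ∧ toList w.1 = d := by
  subst hT
  obtain ⟨x, hx, rfl⟩ := hmem a (by simp)
  obtain ⟨y, hy, rfl⟩ := hmem b (by simp)
  obtain ⟨z, hz, rfl⟩ := hmem c (by simp)
  obtain ⟨w, hw, rfl⟩ := hmem d (by simp)
  exact ⟨⟨x, hx⟩, ⟨y, hy⟩, ⟨z, hz⟩, ⟨w, hw⟩, rfl, rfl, rfl, rfl⟩

theorem noStem_nine_perm (T : List (List ℕ)) (hmem : ∀ L ∈ T, ∃ s ∈ K, toList s = L) (hok : nineT T = true)
    (hidx : ∀ d, d * 9 = Nat.card K → ¬ 3 ∣ d) : NoStem ↥K 3 := by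
  unfold nineT at hok
  split at hok
  case h_2 => simp at hok
  case h_1 a b c d =>
    obtain ⟨x, y, z, w, rfl, rfl, rfl, rfl⟩ := exists_four hmem rfl
    simp only [Bool.and_eq_true, beq_iff_eq, decide_eq_true_eq] at hok
    obtain ⟨⟨⟨⟨⟨⟨⟨o1, o2⟩, o3⟩, o4⟩, o5⟩, o6⟩, o7⟩, o8⟩ := hok
    refine noStem_three_nine ↥K x y z w ?_ ?_ ?_ ?_ ?_ ?_ ?_ ?_ hidx
    all_goals first
      | (apply inj_tab
         simp only [Subgroup.coe_mul, Subgroup.coe_inv, SubgroupClass.coe_pow, OneMemClass.coe_one, toList_mul,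
           toList_inv, toList_pow, toList_one]
         assumption)
      | intro p q hpq
        apply o8
        have h := congrArg (fun g : ↥K => toList g.1) hpq
        simpa only [Subgroup.coe_mul, SubgroupClass.coe_pow, toList_mul, toList_pow] using h

theorem noStem_heis_perm (T : List (List ℕ)) (hmem : ∀ L ∈ T, ∃ s ∈ K, toList s = L) (hok : heisT T = true)
    (hidx : ∀ d, d * 27 = Nat.card K → ¬ 3 ∣ d) : NoStem ↥K 3 := by
  unfold heisT at hok
  split at hok
  case h_2 => simp at hok
  case h_1 a b c d =>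
    obtain ⟨x, y, z, w, rfl, rfl, rfl, rfl⟩ := exists_four hmem rfl
    simp only [Bool.and_eq_true, beq_iff_eq, decide_eq_true_eq, commT, conjT] at hok
    obtain ⟨⟨⟨⟨⟨⟨⟨⟨o1, o2⟩, o3⟩, o4⟩, o5⟩, o6⟩, o7⟩, o8⟩, o9⟩ := hok
    refine noStem_three_twentyseven ↥K x y z w ?_ ?_ ?_ ?_ ?_ ?_ ?_ ?_ ?_ hidx
    all_goals first
      | (apply inj_tab
         simp only [commutatorElement_def, Subgroup.coe_mul, Subgroup.coe_inv, SubgroupClass.coe_pow,
           OneMemClass.coe_one, toList_mul, toList_inv, toList_pow, toList_one]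
         assumption)
      | intro p q hpq
        apply of_decide_eq_true o9
        have h := congrArg (fun g : ↥K => toList g.1) hpq
        simpa only [commutatorElement_def, Subgroup.coe_mul, Subgroup.coe_inv, SubgroupClass.coe_pow, toList_mul,
          toList_inv, toList_pow] using h

/-- Primes from five on whose square does not divide the order. -/
theorem noStem_large {G : Type} [Group G] [Finite G] {a b M : ℕ} (hcard : Nat.card G = 2 ^ a * 3 ^ b * M)
    (hM0 : M ≠ 0) (hM : ∀ p < Nat.sqrt M + 1, 5 ≤ p → ¬ p ^ 2 ∣ M) {p : ℕ} (hp : p.Prime) (h2 : p ≠ 2)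
    (h3 : p ≠ 3) : NoStem G p := by
  refine noStem_of_not_sq_dvd G hp fun hsq => ?_
  have hc : ∀ q : ℕ, q.Prime → p ≠ q → ∀ n, Nat.Coprime (p ^ 2) (q ^ n) := fun q hq hne n =>
    Nat.Coprime.pow 2 n ((Nat.coprime_primes hp hq).mpr hne)
  rw [hcard] at hsq
  have h := (Nat.Coprime.mul_right (hc 2 Nat.prime_two h2 a) (hc 3 Nat.prime_three h3 b)).dvd_of_dvd_mul_left hsq
  refine hM p (Nat.lt_succ_of_le (Nat.le_sqrt'.mpr (Nat.le_of_dvd (Nat.pos_of_ne_zero hM0) h))) ?_ h
  rcases Nat.lt_or_ge p 5 with h5 | h5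
  · interval_cases p <;> simp_all (config := {decide := true})
  · exact h5

end CfsgLib.Multiplier
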