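/-
The double cover of the smaller five-transitive Mathieu group from the monomial symmetries of the ternary code,
as permutations of the 24 points.
-/
import Cfsg.Agent.Golay.TernaryAut
import Cfsg.Agent.Golay.M11Fusion
import Cfsg.Agent.Multiplier.ThreePerm

set_option autoImplicit false
set_option maxRecDepth 100000
set_option linter.style.haveILetI false

namespace CfsgLib.Multiplier.M12

open Cfsg CfsgLib CfsgLib.Golay
open scoped Pointwise commutatorElement

/-- The signed point at a position. -/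
def toN (x : ArrayPt × (ZMod 3)ˣ) : GolayPt := pt (Tern.pidx x.1 + if x.2 = 1 then 0 else 12)

/-- The position of a signed point. -/
def ofN (q : GolayPt) : ArrayPt × (ZMod 3)ˣ := (Tern.ptN (idx q % 12), if idx q < 12 then 1 else -1)

/-- The signed points as the 24 points. -/
def e : ArrayPt × (ZMod 3)ˣ ≃ GolayPt where
  toFun := toN
  invFun := ofN
  left_inv := by decide +kernel
  right_inv := by decide +kernel

/-- A monomial map as a permutation of the 24 points. -/
def emb (σ : Equiv.Perm ArrayPt) (c : ArrayPt → (ZMod 3)ˣ) : Equiv.Perm GolayPt :=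
  e.permCongr ⟨fun x => (σ x.1, c (σ x.1) * x.2), fun x => (σ.symm x.1, (c x.1)⁻¹ * x.2),
    fun x => by simp, fun x => by simp⟩

theorem emb_apply (σ : Equiv.Perm ArrayPt) (c : ArrayPt → (ZMod 3)ˣ) (x : ArrayPt × (ZMod 3)ˣ) :
    emb σ c (e x) = e (σ x.1, c (σ x.1) * x.2) := by simp [emb]

theorem emb_mul (σ τ : Equiv.Perm ArrayPt) (c d : ArrayPt → (ZMod 3)ˣ) :
    emb σ c * emb τ d = emb (σ * τ) fun i => c i * d (σ.symm i) := by
  refine Equiv.ext fun q => ?_
  obtain ⟨x, rfl⟩ := e.surjective q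
  simp [Equiv.Perm.mul_apply, emb_apply, mul_assoc]

theorem emb_injective : Function.Injective fun f : Equiv.Perm ArrayPt × (ArrayPt → (ZMod 3)ˣ) => emb f.1 f.2 := by
  rintro ⟨σ, c⟩ ⟨τ, d⟩ h
  have h1 : ∀ p, (σ p, c (σ p)) = (τ p, d (τ p)) := fun p => by
    have := congrArg (fun f : Equiv.Perm GolayPt => f (e (p, 1))) h
    simpa [emb_apply] using this
  obtain rfl : σ = τ := Equiv.ext fun p => (Prod.ext_iff.mp (h1 p)).1
  refine Prod.ext rfl (funext fun i => ?_)
  simpa using (Prod.ext_iff.mp (h1 (σ.symm i))).2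

/-- The monomial symmetries as permutations of the 24 points. -/
def carrier : Submonoid (Equiv.Perm GolayPt) where
  carrier := {π | ∃ σ c, Mono.Keeps ternaryGolayCode σ c ∧ emb σ c = π}
  one_mem' := by
    obtain ⟨c, hc⟩ := Mono.perms_one ternaryGolayCode
    refine ⟨1, fun _ => 1, fun x hx => ?_, Equiv.ext fun q => ?_⟩
    · have : monomialMap (1 : Equiv.Perm ArrayPt) (fun _ => (1 : (ZMod 3)ˣ)) x = x := by
        funext i; simp [monomialMap, Equiv.Perm.one_def]
      rwa [this]
    · obtain ⟨x, rfl⟩ := e.surjective q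
      simp [emb_apply]
  mul_mem' := by
    rintro _ _ ⟨σ, c, hc, rfl⟩ ⟨τ, d, hd, rfl⟩
    exact ⟨σ * τ, _, fun x hx => Mono.monomialMap_comp σ τ c d x ▸ hc _ (hd x hx), (emb_mul σ τ c d).symm⟩

/-- The cover. -/
def D : Subgroup (Equiv.Perm GolayPt) where
  toSubmonoid := carrier
  inv_mem' := fun {x} hx => by
    show x⁻¹ ∈ carrier
    rw [← (eq_inv_of_mul_eq_one_left (by rw [← pow_succ, Nat.sub_add_cancel (orderOf_pos x), pow_orderOf_eq_one]) :
      x ^ (orderOf x - 1) = x⁻¹)]
    exact pow_mem hx _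

theorem card_D : Nat.card D = 190080 := by
  rw [← Tern.monomial_card]
  symm
  refine Nat.card_eq_of_bijective (fun f => (⟨emb f.1.1 f.1.2, f.1.1, f.1.2, f.2, rfl⟩ : D))
    ⟨fun a b h => Subtype.ext (emb_injective (congrArg Subtype.val h)), ?_⟩
  rintro ⟨_, σ, c, hc, rfl⟩
  exact ⟨⟨(σ, c), hc⟩, rfl⟩

theorem dec_unique {π : D} {σ : Equiv.Perm ArrayPt} {c : ArrayPt → (ZMod 3)ˣ} (h : π.1 = emb σ c) (p : ArrayPt)
    (u : (ZMod 3)ˣ) : (e.symm (π.1 (e (p, u)))).1 = σ p := by
  simp [h, emb_apply]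

/-- The permutation part. -/
noncomputable def part : D →* Equiv.Perm ArrayPt where
  toFun π := π.2.choose
  map_one' := by
    refine Equiv.ext fun p => ?_
    rw [← dec_unique (π := (1 : D)) (1 : D).2.choose_spec.choose_spec.2.symm p 1]
    simp
  map_mul' a b := by
    refine Equiv.ext fun p => ?_
    obtain ⟨σ, c, -, ha⟩ := a.2
    obtain ⟨τ, d, -, hb⟩ := b.2
    rw [← dec_unique (π := a * b) (a * b).2.choose_spec.choose_spec.2.symm p 1, Equiv.Perm.mul_apply,
      ← dec_unique (π := b) b.2.choose_spec.choose_spec.2.symm p 1,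
      ← dec_unique (π := a) a.2.choose_spec.choose_spec.2.symm _ 1,
      dec_unique (π := a * b) (show (a * b).1 = emb (σ * τ) _ by rw [Subgroup.coe_mul, ← ha, ← hb, emb_mul]),
      dec_unique (π := b) hb.symm, dec_unique (π := a) ha.symm, Equiv.Perm.mul_apply]

theorem part_emb {π : D} {σ : Equiv.Perm ArrayPt} {c : ArrayPt → (ZMod 3)ˣ} (h : π.1 = emb σ c) : part π = σ := by
  refine Equiv.ext fun p => ?_
  show π.2.choose p = σ p
  rw [← dec_unique (π := π) π.2.choose_spec.choose_spec.2.symm p 1, dec_unique h]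

theorem part_range : part.range = setSystemAut Tern.hexSet := by
  refine SetLike.ext fun σ => ?_
  rw [← SetLike.mem_coe (p := setSystemAut Tern.hexSet), ← Tern.perms_eq]
  constructor
  · rintro ⟨⟨_, τ, c, hc, rfl⟩, rfl⟩
    rw [part_emb (σ := τ) (c := c) rfl]
    exact ⟨c, hc⟩
  · rintro ⟨c, hc⟩
    exact ⟨⟨_, σ, c, hc, rfl⟩, part_emb rfl⟩

/-- Minus one. -/
def negOne : Equiv.Perm GolayPt := emb 1 fun _ => -1

theorem negOne_mem : negOne ∈ D := by
  refine ⟨1, _, fun x hx => ?_, rfl⟩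
  have : monomialMap (1 : Equiv.Perm ArrayPt) (fun _ => (-1 : (ZMod 3)ˣ)) x = -x := by
    funext i; simp [monomialMap, Equiv.Perm.one_def]
  rw [this]
  exact ternaryGolayCode.neg_mem hx

theorem ker_cases {π : D} (h : part π = 1) : π = 1 ∨ π = ⟨negOne, negOne_mem⟩ := by
  obtain ⟨σ, c, hc, hπ⟩ := π.2
  obtain rfl : σ = 1 := (part_emb hπ.symm).symm.trans h
  have hu : ∀ p, c p = c (1, 2) := Tern.diag_const c hc
  have : c (1, 2) = 1 ∨ c (1, 2) = -1 := by generalize c (1, 2) = u; revert u; decide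
  rcases this with h1 | h1
  · left
    refine Subtype.ext (hπ.symm.trans ?_)
    obtain ⟨σ', c', -, h'⟩ := (1 : D).2
    refine Equiv.ext fun q => ?_
    obtain ⟨x, rfl⟩ := e.surjective q
    simp [emb_apply, hu, h1]
  · right
    refine Subtype.ext (hπ.symm.trans ?_)
    show emb 1 c = emb 1 fun _ => -1
    rw [show c = fun _ => -1 from funext fun p => (hu p).trans h1]

theorem negOne_comm (π : D) : negOne * π.1 = π.1 * negOne := by
  obtain ⟨σ, c, -, hπ⟩ := π.2
  rw [← hπ, negOne, emb_mul, emb_mul, one_mul, mul_one]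
  congr 1
  funext i
  simp [Equiv.Perm.one_def, mul_comm]

theorem ker_card : Nat.card part.ker = 2 := by
  have h := part.ker.card_mul_index
  rw [Subgroup.index_ker, part_range, Tern.aut_card, card_D] at h
  exact Nat.eq_of_mul_eq_mul_right (Nat.succ_pos 95039) h

/-- Tables in the cover. -/
def tabOK (L : List ℕ) : Bool :=
  decide (L.length = 24) && (List.range 24).all (fun i => Nat.blt (L.getD i 0) 24) &&
    let l := (List.range 12).map fun p => L.getD p 0 % 12
    let m := (List.range 12).map fun q => l.idxOf q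
    let c := (List.range 12).map fun q => if L.getD (m.getD q 0) 0 < 12 then 1 else 2
    Tern.entryOK l m c && decide (toList (emb (Tern.permT l m) (Tern.signT c)) = L)

theorem exists_of_tabOK {L : List ℕ} (h : tabOK L = true) : ∃ s ∈ D, toList s = L := by
  simp only [tabOK, Bool.and_eq_true, decide_eq_true_eq, Tern.entryOK] at h
  obtain ⟨-, h1, h2⟩ := h
  exact ⟨_, ⟨_, _, Mono.keeps_of_gens Tern.code_eq_span (fun x ⟨j, hj⟩ => hj ▸ (Tern.mem_iff_good _).mpr (h1 j)),
    rfl⟩, h2⟩

/-- The Mathieu group as the automorphisms of the hexads. -/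
theorem exists_iso : Nonempty (setSystemAut Tern.hexSet ≃* ↥Spor.M12) := by
  obtain ⟨⟨-, ψ, -⟩, -⟩ := Steiner.aut12_full Tern.hexSet_steiner (by rfl) squareDodecad_mem
  have hmap : Spor.M12 = (MulAction.stabilizer M24 Spor.squareDodecad).map M24.subtype := by
    ext g
    exact ⟨fun ⟨h, h0⟩ => ⟨⟨g, h⟩, h0, rfl⟩, fun ⟨⟨g', h⟩, h0, e⟩ => e ▸ ⟨h, h0⟩⟩
  exact ⟨ψ.symm.trans ((Subgroup.equivMapOfInjective _ M24.subtype M24.subtype_injective).trans
    (MulEquiv.subgroupCongr hmap.symm))⟩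

end CfsgLib.Multiplier.M12
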