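/-
The multiplier of the smaller five-transitive Mathieu group has order two.
-/
import Cfsg.Agent.Multiplier.M12Cover
import Cfsg.Agent.ExtCert.TrivModule
import Cfsg.Agent.ExtCert.M12CoverData
import Cfsg.Agent.S3958

set_option autoImplicit false
set_option maxRecDepth 100000
set_option linter.style.haveILetI false

namespace CfsgLib.Multiplier.M12

open Cfsg CfsgLib CfsgLib.Golay CfsgLib.ExtCert
open scoped commutatorElement

theorem rels_ok : M12Cover.data.relsOK = true := by decide +kernel

theorem k_ok : M12Cover.data.kOK trivModule = true := by decide +kernel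

theorem fus_ok : M12Cover.data.fusOK = true := by decide +kernel

theorem idents_ok : M12Cover.data.identsOK trivModule = true := by decide +kernel

theorem nf_ok : M12Cover.data.nfIncOK = true := by decide +kernel

theorem nf_length : M12Cover.data.NF.length = 128 := by decide +kernel

theorem gens_ok : ∀ L ∈ M12Cover.data.L ++ M12Cover.data.fus.map (·.G) ++ M12Cover.threeL ++
    [M12Cover.comL.1, M12Cover.comL.2], tabOK L = true := by decide +kernel

theorem heis_ok : heisT M12Cover.threeL = true := by decide +kernel

theorem com_ok : commT M12Cover.comL.1 M12Cover.comL.2 = toList negOne := by decide +kernel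

theorem mem_tab {L : List ℕ} (h : L ∈ M12Cover.data.L ++ M12Cover.data.fus.map (·.G) ++ M12Cover.threeL ++
    [M12Cover.comL.1, M12Cover.comL.2]) : ∃ s ∈ D, toList s = L := exists_of_tabOK (gens_ok L h)

/-- The cover has trivial multiplier. -/
theorem cover_multiplier : Cfsg.HasCyclicSchurMultiplier ↥D 1 := by
  refine hasTrivial_of_noStem ↥D fun p hp => ?_
  by_cases h2 : p = 2
  · subst h2
    exact noStem_two M12Cover.data (fun L hL => mem_tab (List.mem_append_left _ (List.mem_append_left _ hL)))
      rels_ok k_ok fus_ok idents_ok (Data.nfGood_of_inc _ nf_ok)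
      fun d hd => by rw [nf_length, card_D] at hd; omega
  by_cases h3 : p = 3
  · subst h3
    exact noStem_heis_perm M12Cover.threeL (fun L hL => mem_tab (List.mem_append_left _ (List.mem_append_right _ hL)))
      heis_ok fun d hd => by rw [card_D] at hd; omega
  exact noStem_large (a := 7) (b := 3) (M := 55) (by rw [card_D]; norm_num) (by norm_num)
    (by decide +kernel) hp h2 h3

/-- The projection to the Mathieu group. -/
noncomputable def proj : D →* ↥Spor.M12 :=
  exists_iso.some.toMonoidHom.comp ((MulEquiv.subgroupCongr part_range).toMonoidHom.comp part.rangeRestrict)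

theorem proj_ker : proj.ker = part.ker := by
  ext x
  simp [proj, MonoidHom.mem_ker, Subtype.ext_iff]

theorem proj_stem : Cfsg.IsStemExtension proj := by
  refine ⟨exists_iso.some.surjective.comp ((MulEquiv.subgroupCongr part_range).surjective.comp
    part.rangeRestrict_surjective), fun x hx => ?_, fun x hx => ?_⟩ <;> rw [proj_ker] at hx
  · rcases ker_cases hx with rfl | rfl
    · exact one_mem _
    · exact Subgroup.mem_center_iff.mpr fun g => Subtype.ext (negOne_comm g).symm
  · rcases ker_cases hx with rfl | rfl
    · exact one_mem _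
    · obtain ⟨a, ha, hla⟩ := mem_tab (L := M12Cover.comL.1) (by simp)
      obtain ⟨b, hb, hlb⟩ := mem_tab (L := M12Cover.comL.2) (by simp)
      have : (⟨negOne, negOne_mem⟩ : D) = ⁅(⟨a, ha⟩ : D), ⟨b, hb⟩⁆ := Subtype.ext (toList_injective (by
        rw [commutatorElement_def]
        simp only [Subgroup.coe_mul, Subgroup.coe_inv, toList_mul, toList_inv, hla, hlb]
        exact com_ok.symm))
      rw [this, _root_.commutator_def]
      exact Subgroup.commutator_mem_commutator (Subgroup.mem_top _) (Subgroup.mem_top _)

/-- The multiplier is cyclic of order two. -/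
theorem multiplier : Cfsg.HasCyclicSchurMultiplier ↥Spor.M12 2 := by
  have hk : Nat.card proj.ker = 2 := by rw [proj_ker]; exact ker_card
  haveI : Fact (Nat.Prime 2) := ⟨Nat.prime_two⟩
  haveI : IsCyclic proj.ker := isCyclic_of_prime_card hk
  let eq : proj.ker ≃* Multiplicative (ZMod 2) :=
    mulEquivOfCyclicCardEq (by rw [hk, Nat.card_eq_fintype_card]; rfl)
  refine ⟨⟨D, inferInstance, inferInstance, proj, proj_stem, ⟨eq⟩⟩, fun Γ _ _ σ hσ => ?_⟩
  obtain ⟨π, hπ⟩ := Cfsg.Agent.S3958.result proj proj_stem cover_multiplier Γ σ hσ
  exact ⟨π.comp eq.symm.toMonoidHom, hπ.comp eq.symm.surjective⟩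

end CfsgLib.Multiplier.M12
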